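import Cfsg.Agent.Lib.Comp.Thz.Data
import Cfsg.Agent.Lib.Comp.Th.Main
import Cfsg.Agent.Lib.Comp.XCen

set_option maxRecDepth 100000

namespace Cfsg.Lib.Comp.Thz

open Cfsg.Lib.Comp.Th Cfsg.Lib.MatB.FixC Cfsg.Lib.MatB.J4L Subgroup
open scoped commutatorElement

/-- The control group. -/
abbrev D : Type := cl (gp Thn.nets) LN

instance : Finite D := Thn.nets_ok.finite LN

noncomputable abbrev ed (w : List ℕ) : D := evG Thn.nets (cl (gp Thn.nets) LN) w

theorem ph_ed {w : List ℕ} (h : subB w LN = true) : ph (ed w) = ev gam w := ph_ex.choose_spec.evG (sub_of_subB h)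

/-- Equality of two words of `H`. -/
noncomputable def eqH (u w : List ℕ) : Bool :=
  cnd (subB u LN) (cnd (subB w LN) (eqW Thn.tb Thn.B Thn.Lc u w) false) false

theorem h_eq {u w : List ℕ} (h : eqH u w = true) : ev gam u = ev gam w := by
  rw [eqH, cnd_tt, cnd_tt] at h
  rw [← ph_ed h.1, ← ph_ed h.2.1]
  exact congrArg ph (Thn.ctl.eq h.2.2)

/-- Inequality of two words of `H`. -/
noncomputable def neH (u w : List ℕ) (p : ℕ) : Bool :=
  cnd (subB u LN) (cnd (subB w LN) (cnd (Nat.beq (wap Thn.tb u p) (wap Thn.tb w p)) false true) false) false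

theorem h_ne {u w : List ℕ} {p : ℕ} (h : neH u w p = true) : ev gam u ≠ ev gam w := fun e => by
  rw [neH, cnd_tt, cnd_tt, cnd_ff] at h
  rw [← ph_ed h.1, ← ph_ed h.2.1] at e
  have := congrArg Subtype.val (ph_inj e)
  unfold ed evG at this
  rw [coe_ev_sval fun x hx => mem_cl (sub_of_subB h.1 x hx), coe_ev_sval fun x hx => mem_cl (sub_of_subB h.2.1 x hx)] at this
  exact ne_of_wap Thn.tb_ok h.2.2.1 this

theorem c_le : cl gam LC ≤ centralizer {gam 1} := cl_le.2 fun x hx => mem_centralizer_singleton_iff.2 (by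
  rcases (by revert x; decide +kernel : eqH [x, 1] [1, x] = true ∨ x = 10 ∨ x = 11) with h | h
  · simpa [ev_cons, ev_nil] using h_eq h
  have h1 := gam_rel ([11, 1, 10, 1], 0) (by decide +kernel)
  have h2 := gam_rel ([1], 1) (by decide +kernel)
  have h3 : gam 11 = (gam 10)⁻¹ := gam_inv (x := 10) (by norm_num)
  simp only [ev_cons, ev_nil, mul_one, zero_add, pow_succ, pow_zero, one_mul, h3] at h1 h2
  have h4 : Commute (gam 10) (gam 1) := by
    rw [inv_mul_eq_one, eq_comm, ← eq_inv_mul_iff_mul_eq, inv_eq_of_mul_eq_one_left h2] at h1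
    exact h1
  rcases h with rfl | rfl
  exacts [h4, h3 ▸ h4.inv_left])

theorem c_ord : Nat.card (cl gam LC) = 92897280 := (c_card gam_iv gam_rel gam_ne).1

theorem k_lb : 774144 ≤ Nat.card (centralizer {ed [1]}) := by
  have h : Nat.card (cl gam LC) ≤ _ := (The.TG_idx.card_le (cl gam LK) gam_iv
    ((The.rc _ _ gam_iv gam_rel).mono (by decide +kernel))
    fun w hw => ev_mem fun x hx => mem_cl (by revert x w; decide)).2
  have h1 : cl gam LK ≤ (centralizer {ed [1]}).map ph := cl_le.2 fun x hx =>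
    ⟨ed [x], mem_centralizer_singleton_iff.2 (ph_inj (by
      rw [map_mul, map_mul, ph_ed (by revert x; decide +kernel), ph_ed (by decide +kernel), ev_single, ev_single]
      exact mem_centralizer_singleton_iff.1 (c_le (mem_cl (by revert x; decide))))),
      by rw [ph_ed (by revert x; decide +kernel), ev_single]⟩
  have h2 := card_le_of_le h1
  rw [card_map_of_injective ph_inj] at h2
  rw [c_ord] at h
  exact (fun a b (h : 92897280 ≤ 120 * a) (h' : a ≤ b) => by omega : ∀ a b, _ → _ → 774144 ≤ b) _ _ h h2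

theorem cls : Nat.card (centralizer {ed [1]}) = 774144 ∧ ∀ b : D, IsConj b (ed [1]) →
    ∃ d ∈ A, ed (cw Thn.civ [1] d.1) = b ∧ P.map ⇑(b : Equiv.Perm ℕ)⁻¹ = d.2 := by
  obtain ⟨h1, h2⟩ := cls_spec Thn.ctl (by decide +kernel) a_ok a_inc (by
    rw [Thn.card, a_len]; exact le_trans (by norm_num) (Nat.mul_le_mul_left _ k_lb))
  rw [Thn.card, a_len] at h1
  exact ⟨(fun a (h : 634023936 = 819 * a) => by omega : ∀ a, _ → a = 774144) _ h1, h2⟩

theorem fix_a : (MulAction.fixedBy (Spor.Th ⧸ H) (gam 1)).ncard ≤ 10200 := by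
  let _ : MulAction (cl (gp Thn.nets) LN) (Spor.Th ⧸ H) := MulAction.compHom _ ph
  have hF := (sym_core Thn.ctl ph_ex.choose_spec gam_iv
    (fun w hw => mem_bot.1 (Thn.gw.of_cons Thn.rs _ gam ⊥ gam_iv rel_s (by simp) w hw)) Thn.uP Thn.uS Thn.uA (H := H)
    (fun w hw => ev_mem fun x hx => mem_cl (by revert x w; decide)) Thn.uD_ok).2.2
  have h := fix_le (x := nd) Thn.nets_ok Thn.ctl hF Thn.card Thn.uV_ok
    (fun v hv => (congrArg Set.ncard (orbit_phi ph ph_range (nd v.1))).trans (orbit_eq v hv))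
    (fun y => let ⟨v, hv, e⟩ := cover.2 y; ⟨v, hv, (orbit_phi ph ph_range (nd v.1)).ge e⟩) cls.2 s_ok cls.1.le
  rw [a_sum] at h
  rw [← ev_single gam 1, ← ph_ed (by decide +kernel)]
  exact h

theorem conj_b : IsConj (ph (ed [5, 2, 1, 3, 2])) (gam 1) := by
  have h1 := gam_rel ([11] ++ [2, 3, 1, 2] ++ [10] ++ [2, 1, 3, 2, 5], 0) (by decide +kernel)
  have h2 := h_eq (u := [2, 1, 3, 2, 5] ++ [5, 2, 1, 3, 2]) (w := []) (by decide +kernel)
  have h3 := congrArg ph (Thn.ctl.eq (u := cw Thn.civ [1] wt) (v := [2, 3, 1, 2]) (by decide +kernel))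
  rw [cw_eq Thn.ctl (by decide +kernel), map_mul, map_mul, map_inv, ph_ed (w := [1]) (by decide +kernel),
    ph_ed (w := [2, 3, 1, 2]) (by decide +kernel), ev_single] at h3
  rw [ev_append, ev_nil, mul_eq_one_iff_inv_eq] at h2
  rw [zero_add, pow_one, ev_append, ev_append, ev_append, ev_single, ev_single, mul_eq_one_iff_eq_inv, h2, ← h3,
    show gam 11 = (gam 10)⁻¹ from gam_inv (x := 10) (by norm_num)] at h1
  rw [ph_ed (by decide +kernel), ← h1]
  exact (isConj_iff.2 ⟨(gam 10)⁻¹ * ph (ed wt), by group⟩).symm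

theorem cls_b : 24576 ≤ {b | b ∈ H ∧ IsConj b (gam 1)}.ncard :=
  cls_lb' (q := 1) (a := 1) (n := 6144) Thn.ctl (by decide +kernel) b_ok (by decide +kernel) (by decide +kernel) ph_inj
    ph_range.le (fun r h1 h2 => by
      obtain ⟨e1, e2, e3, -⟩ := Thn.ex.cons Thn.nets_ok
      obtain ⟨g, hg, e⟩ := (e1.cons Thn.nets_ok).2.2.2.2.1 r h1 h2
      exact ⟨g, Thn.cl_lc ▸ cl_mono e2 hg, (e3 g (cl_mono e2 hg)).2 hg, e⟩) conj_b

theorem cen_eq : centralizer {gam 1} = cl gam LC := by
  have h1 := fix_quot H (gam 1)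
  obtain ⟨m, hm⟩ := card_dvd_of_le c_le
  have h2 := (centralizer {gam 1}).card_subgroup_dvd_card
  rw [card_all.2.2.2] at h1
  rw [c_ord] at hm
  rw [card_all.1, hm] at h2
  have h3 := (Nat.mul_le_mul_right _ cls_b).trans (h1.ge.trans (Nat.mul_le_mul_right _ fix_a))
  rw [hm] at h3
  have h4 : m < 3 := by omega
  refine (eq_of_le_of_card_ge c_le ?_).symm
  rw [hm, c_ord]
  interval_cases m <;> omega

/-- The centraliser of `a`. -/
abbrev C : Type := centralizer ({gam 1} : Set Spor.Th)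

noncomputable abbrev gc : ℕ → C := sval (centralizer {gam 1}) gam

theorem coe_gc {w : List ℕ} (h : subB w LC = true) : ((ev gc w : C) : Spor.Th) = ev gam w :=
  coe_ev_sval fun x hx => c_le (mem_cl (sub_of_subB h x hx))

theorem f_ex : ∃ f : C →* Equiv.Perm ℕ, f.range = cl (gp Th9.nets) LC ∧
    ∀ w, subB w LC = true → f (ev gc w) = ev (gp Th9.nets) w := by
  obtain ⟨f, hf⟩ := hom_of_ord.{0, 0} The.z_ord gam_iv (The.rc _ _ gam_iv gam_rel) Th9.nets_iv Th9.nets_rel c_ord.ge
  refine ⟨f.comp (MulEquiv.subgroupCongr cen_eq).toMonoidHom, ?_, fun w hw => ?_⟩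
  · rw [MonoidHom.range_comp, MonoidHom.range_eq_top.2 (MulEquiv.subgroupCongr cen_eq).surjective,
      ← MonoidHom.range_eq_map, MonoidHom.range_eq_map, ← cl_sval_top gam LC]
    refine map_cl_of_gen fun x hx => ?_
    have := hf [x] (by simpa using hx)
    rw [ev_single (gp Th9.nets)] at this
    rw [← this]
    exact congrArg f (Subtype.ext ((coe_sval (mem_cl hx)).trans (ev_single _ _).symm))
  · rw [← hf w (sub_of_subB hw)]
    exact congrArg f (Subtype.ext (coe_gc hw))

noncomputable def gq : ℕ → C := sv gc VQ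

def LQ : List ℕ := [1, 2, 3, 4, 5, 6, 7, 8]

/-- Equality of a word in the generators of `Q` with such a word, times `a` or not. -/
noncomputable def eqQ (u v w : List ℕ) : Bool :=
  cnd (subB (xpd VQ u) LC) (cnd (subB (apd v (xpd VQ w)) LC) (eqH (xpd VQ u) (apd v (xpd VQ w))) false) false

theorem q_eq {u v w : List ℕ} (h : eqQ u v w = true) : ev gq u = ev gc v * ev gq w := by
  rw [eqQ, cnd_tt, cnd_tt] at h
  rw [gq, ← ev_xpd, ← ev_xpd, ← ev_append, ← apd_eq]
  exact Subtype.ext (by rw [coe_gc h.1, coe_gc h.2.1, h_eq h.2.2])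

theorem q_ne {u w : List ℕ} {p : ℕ} (h : cnd (subB (xpd VQ u) LC) (cnd (subB (xpd VQ w) LC)
    (neH (xpd VQ u) (xpd VQ w) p) false) false = true) : ev gq u ≠ ev gq w := fun e => by
  rw [cnd_tt, cnd_tt] at h
  rw [gq, ← ev_xpd, ← ev_xpd] at e
  exact h_ne h.2.2 (by rw [← coe_gc h.1, ← coe_gc h.2.1, e])

theorem coe_z : (gc 1 : Spor.Th) = gam 1 := coe_sval (c_le (mem_cl (by decide)))

theorem z_ord : orderOf (gam 1) = 2 :=
  have : Fact (Nat.Prime 2) := Nat.fact_prime_two
  orderOf_eq_prime (by simpa [ev_single] using gam_rel ([1], 1) (by decide +kernel)) gam_ne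

theorem z_cen (x : C) : Commute x (gc 1) := Subtype.ext (by
  rw [coe_mul, coe_mul, coe_z]; exact mem_centralizer_singleton_iff.1 x.2)

theorem main : ∃ (Q : Subgroup C) (_ : Q.Normal), Nat.card Q = 2 ^ 9 ∧ IsExtraspecial 2 Q ∧
    Nonempty (C ⧸ Q ≃* alternatingGroup (Fin 9)) := by
  obtain ⟨f, f1, f2⟩ := f_ex
  have : Fact (Nat.Prime 2) := Nat.fact_prime_two
  have a9 := (c_card gam_iv gam_rel gam_ne).2
  obtain ⟨e⟩ := Th9.alt a9
  have k1 : Nat.card f.ker = 2 ^ 9 := by
    have h := f.ker.index_mul_card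
    rw [index_ker, f1, a9, show Nat.card C = 92897280 by rw [← c_ord, ← cen_eq]] at h
    omega
  have hz : orderOf (gc 1) = 2 := by rw [← orderOf_coe, coe_z, z_ord]
  have k2 : cl gq LQ ≤ f.ker := cl_le.2 fun x hx => by
    have := rels_of_relsB (k := 4) Th9.nets_ok (by norm_num) (R := LQ.map fun x => (nth [] VQ x, 0))
      (by decide +kernel) _ (List.mem_map_of_mem hx)
    rw [zero_add, pow_one] at this
    exact (f2 _ (by clear this; revert x; decide +kernel)).trans this
  have k3 : gc 1 ∈ cl gq LQ := by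
    have := q_eq (u := aw) (v := [1]) (w := []) (by decide +kernel)
    rw [ev_single, ev_nil, mul_one] at this
    exact this ▸ ev_mem fun x hx => mem_cl (by revert x; decide)
  obtain ⟨c1, c2⟩ := XC.comm_mem (z := gc 1) (γ := gq) (L := LQ) (fun x _ => z_cen _) (fun x hx y hy => by
      rcases (by revert x y; decide +kernel : eqQ [x, y] [] [y, x] = true ∨ eqQ [x, y] [1] [y, x] = true) with h | h <;>
        have e := q_eq h <;> simp only [ev_cons, ev_nil, mul_one, one_mul] at e
      · rw [commutatorElement_eq_one_iff_mul_comm.2 e]; exact one_mem _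
      · rw [commutatorElement_def, e, show gc 1 * (gq y * gq x) * (gq x)⁻¹ * (gq y)⁻¹ = gc 1 by group]
        exact mem_zpowers _) fun x hx => by
      have e := q_eq (by revert x; decide +kernel : eqQ [x, x] [] [] = true)
      simp only [ev_cons, ev_nil, mul_one] at e
      rw [pow_two, e]; exact one_mem _
  have c3 := XC.pairs_le (Q := cl gq LQ) (a := fun i => gq (i + 1)) (b := fun i => ev gq (nth ([], 0) PQ i).1) (k := 8)
    (fun i hi => mem_cl (by revert i; decide)) (fun i hi => ev_mem fun x hx => mem_cl (by revert x i; decide +kernel))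
    fun i hi => ⟨fun h => q_ne (u := (i + 1) :: (nth ([], 0) PQ i).1) (w := (nth ([], 0) PQ i).1 ++ [i + 1])
        (p := (nth ([], 0) PQ i).2) (by clear h; revert i; decide +kernel) (by rw [ev_cons, ev_append, ev_single]; exact h),
      fun j hj => by
        have e := q_eq (by revert j i; decide +kernel :
          eqQ ((j + 1) :: (nth ([], 0) PQ i).1) [] ((nth ([], 0) PQ i).1 ++ [j + 1]) = true)
        rwa [ev_cons, ev_append, ev_single, ev_nil, one_mul] at e⟩
  have c4 : zpowers (gc 1) ≤ cl gq LQ ⊓ centralizer (cl gq LQ : Set C) := zpowers_le.2 ⟨k3, fun y _ => z_cen y⟩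
  have c5 := card_le_of_le c4
  have c6 := card_le_of_le k2
  rw [Nat.card_zpowers, hz] at c5
  have c7 : cl gq LQ = f.ker := eq_of_le_of_card_ge k2 (by omega)
  have c8 := (eq_of_le_of_card_ge c4 (by rw [Nat.card_zpowers, hz]; omega)).symm
  refine ⟨f.ker, inferInstance, k1, c7 ▸ PGrp.isExtraspecial_of_le_zpowers hz k3 c8 c1 c2 fun e => ?_,
    ⟨((QuotientGroup.quotientKerEquivRange f).trans (MulEquiv.subgroupCongr f1)).trans e⟩⟩
  rw [← c7, e, Nat.card_zpowers, hz] at k1
  omega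

end Cfsg.Lib.Comp.Thz
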